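import Mathlib
import Cfsg.Agent.Prune
set_option linter.all false
prune_inst 0x7f00000000000000000000000000000000000000000000000000000000000000000000000000000000000000000000000000000000000000000000000000000000000000000000000000000000000000003fffffffffffffffffffffffffffbeffbdffffffff
open scoped Cfsg.Agent.FastGrp

/-!
# Order bounds for groups of Lie type: arithmetic (helper977)

`d |X| = q^N r`, `d` prime to `p`, `r < q^M`, `3 (N + M) ≤ 8 N` imply `|X|^3 < |X|_p^8`, and the sharp bounds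
`∏ (q^(i+2) - 1) < q^((m(m+3))/2)`, `∏ (q^(i+2) - (-1)^(i+2)) < q^((m(m+3))/2)` of the linear and unitary products.
-/

set_option autoImplicit false

namespace Cfsg.Agent.H977.OrdArith

open Finset

/-- The exponent `2 + 3 + ⋯ + (m + 1)`. -/
def ex (m : ℕ) : ℕ := ∑ i ∈ range m, (i + 2)

theorem ex_zero : ex 0 = 0 := rfl

theorem ex_succ (m : ℕ) : ex (m + 1) = ex m + (m + 2) := Finset.sum_range_succ _ m

theorem two_mul_ex (m : ℕ) : 2 * ex m = m * (m + 3) := by
  induction m with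
  | zero => rfl
  | succ m ih => rw [ex_succ, mul_add, ih]; ring

/-- the linear product -/
theorem lin_lt {q : ℕ} (hq : 2 ≤ q) (m : ℕ) :
    ∏ i ∈ range (m + 1), (q ^ (i + 1 + 1) - 1) < q ^ ex (m + 1) := by
  have key : ∀ m : ℕ, ∏ i ∈ range m, (q ^ (i + 1 + 1) - 1) ≤ q ^ ex m := by
    intro m
    induction m with
    | zero => simp [ex_zero]
    | succ m ih =>
      rw [Finset.prod_range_succ, ex_succ, pow_add q (ex m) (m + 2)]
      exact Nat.mul_le_mul ih (Nat.sub_le _ _)
  rw [Finset.prod_range_succ, ex_succ, pow_add q (ex m) (m + 2)]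
  have h1 : 0 < q ^ (m + 2) := pow_pos (by omega) _
  have h2 : 0 < q ^ ex m := pow_pos (by omega) _
  exact (Nat.mul_le_mul_right _ (key m)).trans_lt (Nat.mul_lt_mul_of_pos_left (by
    show q ^ (m + 2) - 1 < q ^ (m + 2)
    omega) h2)

/-- the unitary factor -/
def fu (q i : ℕ) : ℕ := if Even (i + 1) then q ^ (i + 1 + 1) + 1 else q ^ (i + 1 + 1) - 1

theorem fu_even {q i : ℕ} (h : Even i) : fu q i = q ^ (i + 2) - 1 := by
  rw [fu, if_neg]
  rw [Nat.even_add_one]
  exact fun h' => h' h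

theorem fu_odd {q i : ℕ} (h : ¬ Even i) : fu q i = q ^ (i + 2) + 1 := by
  rw [fu, if_pos]
  rw [Nat.even_add_one]
  exact h

/-- one pair of factors -/
theorem pair_lt {q : ℕ} (hq : 2 ≤ q) (a : ℕ) : (q ^ a - 1) * (q ^ (a + 1) + 1) < q ^ (a + (a + 1)) := by
  have h1 : 1 ≤ q ^ a := Nat.one_le_pow _ _ (by omega)
  obtain ⟨x, hx⟩ := Nat.exists_eq_add_of_le h1
  have h2 : q ^ (a + 1) = q ^ a * q := pow_succ q a
  rw [pow_add q a (a + 1), h2, hx]
  have h3 : 1 + x - 1 = x := by omega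
  rw [h3]
  nlinarith [Nat.mul_le_mul (le_refl (1 + x)) hq]

/-- the unitary product: an even number of factors -/
theorem uni_even {q : ℕ} (hq : 2 ≤ q) (j : ℕ) : ∏ i ∈ range (2 * j), fu q i ≤ q ^ ex (2 * j) := by
  induction j with
  | zero => simp [ex_zero]
  | succ j ih =>
    have e : 2 * (j + 1) = 2 * j + 1 + 1 := by ring
    rw [e, Finset.prod_range_succ, Finset.prod_range_succ, ex_succ, ex_succ, mul_assoc,
      fu_even (even_two_mul j), fu_odd (by rw [Nat.even_add_one]; exact fun h => h (even_two_mul j))]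
    have h := (pair_lt hq (2 * j + 2)).le
    calc _ ≤ q ^ ex (2 * j) * q ^ (2 * j + 2 + (2 * j + 2 + 1)) := Nat.mul_le_mul ih h
      _ = q ^ (ex (2 * j) + (2 * j + 2) + (2 * j + 1 + 2)) := by rw [← pow_add]; congr 1; ring

/-- the unitary product -/
theorem uni_lt {q : ℕ} (hq : 2 ≤ q) (m : ℕ) : ∏ i ∈ range (m + 1), fu q i < q ^ ex (m + 1) := by
  rcases Nat.even_or_odd' m with ⟨j, rfl | rfl⟩
  · rw [Finset.prod_range_succ, ex_succ, pow_add q (ex (2 * j)) (2 * j + 2), fu_even (even_two_mul j)]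
    have h1 : 0 < q ^ (2 * j + 2) := pow_pos (by omega) _
    have h2 : 0 < q ^ ex (2 * j) := pow_pos (by omega) _
    exact (Nat.mul_le_mul_right _ (uni_even hq j)).trans_lt (Nat.mul_lt_mul_of_pos_left (by omega) h2)
  · rw [Finset.prod_range_succ, Finset.prod_range_succ, ex_succ, ex_succ, mul_assoc,
      fu_even (even_two_mul j), fu_odd (by rw [Nat.even_add_one]; exact fun h => h (even_two_mul j))]
    have h := pair_lt hq (2 * j + 2)
    have h2 : 0 < q ^ ex (2 * j) := pow_pos (by omega) _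
    calc _ ≤ q ^ ex (2 * j) * ((q ^ (2 * j + 2) - 1) * (q ^ (2 * j + 1 + 2) + 1)) :=
          Nat.mul_le_mul_right _ (uni_even hq j)
      _ < q ^ ex (2 * j) * q ^ (2 * j + 2 + (2 * j + 2 + 1)) := Nat.mul_lt_mul_of_pos_left h h2
      _ = q ^ (ex (2 * j) + (2 * j + 2) + (2 * j + 1 + 2)) := by rw [← pow_add]; congr 1; ring

/-- `d |X| = q^N r` with `d` prime to `p`: `q^N` divides the `p`-part. -/
theorem pow_le_proj {p q k N d n r : ℕ} (hp : p.Prime) (hq : q = p ^ k) (hd : Nat.Coprime d p)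
    (h : d * n = q ^ N * r) (hn : n ≠ 0) : q ^ N ≤ p ^ n.factorization p := by
  have h1 : q ^ N = p ^ (k * N) := by rw [hq, pow_mul]
  have h2 : p ^ (k * N) ∣ n := by
    have h3 : p ^ (k * N) ∣ d * n := by rw [h, h1]; exact dvd_mul_right _ _
    exact (Nat.Coprime.pow_left _ hd.symm).dvd_of_dvd_mul_left h3
  rw [h1]
  exact Nat.pow_le_pow_right hp.pos ((hp.pow_dvd_iff_le_factorization hn).1 h2)

/-- `n < q^(N+M)` -/
theorem lt_pow_add {q N M d n r : ℕ} (hd0 : 0 < d) (hq : 0 < q) (h : d * n = q ^ N * r) (hr : r < q ^ M) :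
    n < q ^ (N + M) :=
  calc n ≤ d * n := Nat.le_mul_of_pos_left n hd0
    _ = q ^ N * r := h
    _ < q ^ N * q ^ M := Nat.mul_lt_mul_of_pos_left hr (pow_pos hq _)
    _ = q ^ (N + M) := (pow_add _ _ _).symm

/-- **Both bounds** from the shape of the order. -/
theorem both_of {p q k N M d n r : ℕ} (hp : p.Prime) (hk : k ≠ 0) (hq : q = p ^ k) (hd : Nat.Coprime d p)
    (h : d * n = q ^ N * r) (hr : r < q ^ M) (hn : n ≠ 0) (hM : 3 * M ≤ 5 * N) :
    n < p ^ (3 * n.factorization p) ∧ n ^ 3 < p ^ (8 * n.factorization p) := by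
  have hq2 : 2 ≤ q := by rw [hq]; exact hp.two_le.trans (Nat.le_self_pow hk p)
  have hd0 : 0 < d := by
    rcases Nat.eq_zero_or_pos d with rfl | h0
    · rw [Nat.coprime_zero_left] at hd
      exact absurd hd hp.ne_one
    · exact h0
  have h1 := pow_le_proj hp hq hd h hn
  have h2 := lt_pow_add hd0 (by omega) h hr
  refine ⟨?_, ?_⟩
  · calc n < q ^ (N + M) := h2
      _ ≤ q ^ (N * 3) := Nat.pow_le_pow_right (by omega) (by omega)
      _ = (q ^ N) ^ 3 := pow_mul _ _ _
      _ ≤ (p ^ n.factorization p) ^ 3 := Nat.pow_le_pow_left h1 3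
      _ = p ^ (3 * n.factorization p) := by rw [← pow_mul, mul_comm]
  · calc n ^ 3 < (q ^ (N + M)) ^ 3 := Nat.pow_lt_pow_left h2 (by norm_num)
      _ = q ^ ((N + M) * 3) := (pow_mul _ _ _).symm
      _ ≤ q ^ (N * 8) := Nat.pow_le_pow_right (by omega) (by omega)
      _ = (q ^ N) ^ 8 := pow_mul _ _ _
      _ ≤ (p ^ n.factorization p) ^ 8 := Nat.pow_le_pow_left h1 8
      _ = p ^ (8 * n.factorization p) := by rw [← pow_mul, mul_comm]

/-- The exact `p`-part: `d n = q^N r`, `r` and `d` prime to `p`. -/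
theorem proj_eq {p q k N d n r : ℕ} (hp : p.Prime) (hq : q = p ^ k) (hd : Nat.Coprime d p)
    (hr : ¬ p ∣ r) (h : d * n = q ^ N * r) (hn : n ≠ 0) : p ^ n.factorization p = q ^ N := by
  have hd0 : d ≠ 0 := by
    rintro rfl
    rw [Nat.coprime_zero_left] at hd
    exact hp.ne_one hd
  have hr0 : r ≠ 0 := by rintro rfl; exact hr (dvd_zero p)
  have hq0 : q ^ N ≠ 0 := by rw [hq]; exact pow_ne_zero _ (pow_ne_zero _ hp.ne_zero)
  have h1 := congrArg (fun x => Nat.factorization x p) h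
  simp only [Nat.factorization_mul hd0 hn, Nat.factorization_mul hq0 hr0, Finsupp.add_apply] at h1
  have h2 : d.factorization p = 0 :=
    Nat.factorization_eq_zero_of_not_dvd ((hp.coprime_iff_not_dvd).1 hd.symm)
  have h3 : r.factorization p = 0 := Nat.factorization_eq_zero_of_not_dvd hr
  have h4 : (q ^ N).factorization p = k * N := by
    rw [hq, ← pow_mul, hp.factorization_pow, Finsupp.single_eq_same]
  rw [h2, h3, h4, zero_add, add_zero] at h1
  rw [h1, hq, ← pow_mul]

end Cfsg.Agent.H977.OrdArith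

private theorem dce_2f7740089e00 : _root_.True := by
  try have : _root_.True := by simp only [_root_.Cfsg.Agent.H977.OrdArith.fu.eq_1]
  exact _root_.True.intro
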