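import Cfsg.Agent.ChevalleyStructure.TwF4.Fix
import Cfsg.Prelude.Def_LieTwisted
set_option linter.all false

/-!
# 2-elements of `²F₄` have order at most 32 (helper977)

`G ≤ GL_52(K)`, `K` finite of characteristic 2, preserving the 26-dimensional short ideal: for a 2-element `x` both
26 × 26 blocks of `x ^ 32` are the identity, and the elements with both blocks the identity form an abelian normal
subgroup.
-/

set_option autoImplicit false

namespace Cfsg.Agent.H977.TwF4Two

open Cfsg Cfsg.Lie Cfsg.Agent.ChevalleyStructure.TwF4 Cfsg.Agent.ChevalleyStructure.TwF4.Fix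
open Cfsg.Agent.ChevalleyStructure.TwF4.Rel

/-- a unipotent matrix of degree at most `p ^ e` in characteristic `p` has order dividing `p ^ e` -/
theorem pow_of_card {K n : Type*} [Field K] {p : ℕ} [Fact p.Prime] [CharP K p] [Fintype n] [DecidableEq n]
    {A : Matrix n n K} {e j : ℕ} (hn : Fintype.card n ≤ p ^ e) (h : A ^ p ^ j = 1) : A ^ p ^ e = 1 := by
  rcases isEmpty_or_nonempty n with h0 | h0
  · exact Subsingleton.elim _ _
  have h1 : (A - 1) ^ p ^ j = 0 := by
    rw [sub_pow_char_pow_of_commute p _ (Commute.one_right A), h, one_pow, sub_self]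
  have h2 : IsNilpotent (A - 1) := ⟨_, h1⟩
  have h3 : (A - 1) ^ Fintype.card n = 0 := by
    have h4 := (Matrix.isNilpotent_charpoly_sub_pow_of_isNilpotent h2).eq_zero
    have h5 : (A - 1).charpoly = Polynomial.X ^ Fintype.card n := sub_eq_zero.1 h4
    have h7 := Matrix.aeval_self_charpoly (A - 1)
    rw [h5] at h7
    simpa using h7
  have h4 : (A - 1) ^ p ^ e = 0 := pow_eq_zero_of_le hn h3
  rw [sub_pow_char_pow_of_commute p _ (Commute.one_right A), one_pow, sub_eq_zero] at h4
  exact h4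

/-- the case of degree 26 in characteristic 2 -/
theorem pow_32 {K : Type*} [Field K] [CharP K 2] {A : Matrix (Fin 26) (Fin 26) K} {j : ℕ}
    (h : A ^ 2 ^ j = 1) : A ^ 32 = 1 := by
  have hf : Fact (Nat.Prime 2) := ⟨Nat.prime_two⟩
  exact pow_of_card (p := 2) (e := 5) (by rw [Fintype.card_fin]; norm_num) h

variable {K : Type*} [Field K] [Finite K]

/-- the block on the ideal, as a homomorphism -/
noncomputable def homA (G : Subgroup (GL chevF4.Idx K)) (hG : G ≤ BlkG K) :
    ↥G →* Matrix (Fin 26) (Fin 26) K where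
  toFun g := Amat ((g : GL chevF4.Idx K) : Matrix chevF4.Idx chevF4.Idx K)
  map_one' := Amat_one
  map_mul' g h := by
    change Amat (((g : GL chevF4.Idx K) * (h : GL chevF4.Idx K) : GL chevF4.Idx K) :
      Matrix chevF4.Idx chevF4.Idx K) = _
    rw [Units.val_mul]
    exact Amat_mul (hG h.2)

/-- the block on the quotient, as a homomorphism -/
noncomputable def homC (G : Subgroup (GL chevF4.Idx K)) (hG : G ≤ BlkG K) :
    ↥G →* Matrix (Fin 26) (Fin 26) K where
  toFun g := Cmat ((g : GL chevF4.Idx K) : Matrix chevF4.Idx chevF4.Idx K)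
  map_one' := Cmat_one
  map_mul' g h := by
    change Cmat (((g : GL chevF4.Idx K) * (h : GL chevF4.Idx K) : GL chevF4.Idx K) :
      Matrix chevF4.Idx chevF4.Idx K) = _
    rw [Units.val_mul]
    exact Cmat_mul (hG g.2)

/-- two matrices preserving the ideal with both blocks the identity commute -/
theorem comm_of_blocks {g h : Matrix chevF4.Idx chevF4.Idx K} (hg : Blk g) (hh : Blk h)
    (ga : Amat g = 1) (gc : Cmat g = 1) (ha : Amat h = 1) (hc : Cmat h = 1) : g * h = h * g := by
  have key : ∀ {g h : Matrix chevF4.Idx chevF4.Idx K}, Blk g → Blk h → Amat g = 1 → Cmat g = 1 → Amat h = 1 →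
      Cmat h = 1 → ∀ i j : Fin 26, (g * h) (io i) (ro j) = g (io i) (ro j) + h (io i) (ro j) := by
    intro g h hg hh ga gc ha hc i j
    rw [Matrix.mul_apply, sum_idx]
    have e1 : ∀ k : Fin 26, g (io i) (io k) = (1 : Matrix (Fin 26) (Fin 26) K) i k := fun k =>
      congrFun (congrFun ga i) k
    have e2 : ∀ k : Fin 26, h (ro k) (ro j) = (1 : Matrix (Fin 26) (Fin 26) K) k j := fun k =>
      congrFun (congrFun hc k) j
    simp only [e1, e2]
    simp [Matrix.one_apply, add_comm]
  ext a b
  rcases idx_cases a with ⟨i, rfl⟩ | ⟨i, rfl⟩ <;> rcases idx_cases b with ⟨j, rfl⟩ | ⟨j, rfl⟩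
  · have h1 := congrFun (congrFun (Amat_mul (g := g) hh) i) j
    have h2 := congrFun (congrFun (Amat_mul (g := h) hg) i) j
    rw [Amat_apply, ga, ha] at h1
    rw [Amat_apply, ga, ha] at h2
    rw [h1, h2]
  · rw [key hg hh ga gc ha hc, key hh hg ha hc ga gc, add_comm]
  · rw [Blk_mul hg hh i j, Blk_mul hh hg i j]
  · have h1 := congrFun (congrFun (Cmat_mul (h := h) hg) i) j
    have h2 := congrFun (congrFun (Cmat_mul (h := g) hh) i) j
    rw [Cmat_apply, gc, hc] at h1
    rw [Cmat_apply, gc, hc] at h2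
    rw [h1, h2]

/-- a simple nonabelian group of matrices preserving the ideal acts faithfully on the sum of the two factors -/
theorem ker_bot (G : Subgroup (GL chevF4.Idx K)) (hG : G ≤ BlkG K) [IsSimpleGroup ↥G]
    (hna : ¬ IsMulCommutative ↥G) : (homA G hG).ker ⊓ (homC G hG).ker = ⊥ := by
  have hn : ((homA G hG).ker ⊓ (homC G hG).ker).Normal := inferInstance
  rcases hn.eq_bot_or_eq_top with h | h
  · exact h
  · exfalso
    apply hna
    refine ⟨⟨fun x y => ?_⟩⟩
    have hx : x ∈ (homA G hG).ker ⊓ (homC G hG).ker := by rw [h]; trivial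
    have hy : y ∈ (homA G hG).ker ⊓ (homC G hG).ker := by rw [h]; trivial
    apply Subtype.ext
    apply Units.ext
    exact comm_of_blocks (hG x.2) (hG y.2) hx.1 hx.2 hy.1 hy.2

/-- **2-elements have order at most 32.** -/
theorem pow_eq_one [CharP K 2] (G : Subgroup (GL chevF4.Idx K)) (hG : G ≤ BlkG K) [IsSimpleGroup ↥G]
    (hna : ¬ IsMulCommutative ↥G) (x : ↥G) {j : ℕ} (hx : x ^ 2 ^ j = 1) : x ^ 32 = 1 := by
  have h : x ^ 32 ∈ (homA G hG).ker ⊓ (homC G hG).ker := by
    refine ⟨?_, ?_⟩
    · change homA G hG (x ^ 32) = 1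
      rw [map_pow]
      apply pow_32 (j := j)
      rw [← map_pow, hx, map_one]
    · change homC G hG (x ^ 32) = 1
      rw [map_pow]
      apply pow_32 (j := j)
      rw [← map_pow, hx, map_one]
  rw [ker_bot G hG hna] at h
  exact h

theorem twistedF4_le [CharP K 2] (e : ℕ) : twistedF4 K e ≤ BlkG K := by
  unfold twistedF4 ChevalleyDatum.genSubgroup
  rw [Subgroup.closure_le]
  rintro g ⟨w, -, hg⟩
  have h1 : g = W w := by
    apply Units.ext
    rw [coe_W, hg]
  rw [h1]
  exact W_mem_BlkG w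

/-- the statement for `²F₄(2^(2m+1))` from its simplicity -/
theorem orderOf_le {m : ℕ} (hK : Nat.card K = 2 ^ (2 * m + 1)) [IsSimpleGroup ↥(twistedF4 K (2 ^ m))]
    (hna : ¬ IsMulCommutative ↥(twistedF4 K (2 ^ m))) (x : ↥(twistedF4 K (2 ^ m)))
    (hx : ∃ j : ℕ, orderOf x = 2 ^ j) : orderOf x ≤ 32 := by
  have hf : Fact (Nat.Prime 2) := ⟨Nat.prime_two⟩
  have hc : CharP K 2 := by
    have := Fintype.ofFinite K
    apply charP_of_card_eq_prime_pow (f := 2 * m + 1)
    rw [← Nat.card_eq_fintype_card]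
    exact hK
  obtain ⟨j, hj⟩ := hx
  exact orderOf_le_of_pow_eq_one (by norm_num)
    (pow_eq_one _ (twistedF4_le _) hna x (j := j) (by rw [← hj]; exact pow_orderOf_eq_one x))

end Cfsg.Agent.H977.TwF4Two
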