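import Cfsg.Agent.H977.MinusL
import Cfsg.Agent.H420.LOrth
import Cfsg.Agent.H425.ChrK_m3
import Cfsg.Agent.H376.CocAlt_m3
import Cfsg.Agent.H946.ExcNum_m3
import Cfsg.Agent.H341.ThreeList_m3
import Cfsg.Agent.H77.E4Poly_m3
import Cfsg.Agent.S0811
import Cfsg.Agent.S0812
import Cfsg.Agent.Prune
set_option linter.all false

section
prune_inst 0x7f00000000000000000000000000000000000000000000000000000000000000000000000000000000000000000000000000000000000000000000000000000000000000000000000000000000000000003fffffffffffffffffffffffffffbeffbdffffffff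

-- part: H977/DpCoc
section
set_option linter.all false
open scoped Cfsg.Agent.FastGrp

-- part: H977/DpGraph
section
/-!
# The prime graph of `²D_p(3)`, `p = 2 ^ n + 1` prime (helper977, for S3651)

* `closed` : the neighbours of a prime `r` of class `2 p` or `2 (p - 1)` (the order of 3 modulo `r`) have the same class;
* `coclique` : cocliques from sets of classes.
-/

set_option autoImplicit false

namespace Cfsg.Agent.H977.Dp

open Cfsg Cfsg.Agent.OrdDiv Cfsg.Agent.H436 Cfsg.Agent.H425.Chr Cfsg.Agent.H420.QR Cfsg.Agent.H376.Coc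
open Cfsg.Agent.H977.Minus (An)

/-! ### `Prim` and the multiplicative order -/

theorem dvd_sub_iff {q r m : ℕ} (hq : 1 ≤ q) : r ∣ q ^ m - 1 ↔ ((q : ℕ) : ZMod r) ^ m = 1 := by
  rw [← ZMod.natCast_eq_zero_iff, Nat.cast_sub (Nat.one_le_pow _ _ hq), Nat.cast_pow, Nat.cast_one, sub_eq_zero]

theorem orderOf_of_prim {q e r : ℕ} (hq : 1 ≤ q) (h : Prim q e r) : orderOf ((q : ℕ) : ZMod r) = e := by
  apply Nat.dvd_antisymm
  · rw [orderOf_dvd_iff_pow_eq_one]
    exact (dvd_sub_iff hq).1 (h.dvd dvd_rfl)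
  · rw [← h.dvd_iff, dvd_sub_iff hq, pow_orderOf_eq_one]

theorem prim_of_orderOf {q r : ℕ} (hq : 1 ≤ q) (hr : r.Prime) (h : ¬ r ∣ q) :
    Prim q (orderOf ((q : ℕ) : ZMod r)) r :=
  ⟨hr, fun m => by rw [dvd_sub_iff hq, orderOf_dvd_iff_pow_eq_one], h⟩

theorem prim_pos {q e r : ℕ} (hq : 1 ≤ q) (h : Prim q e r) : 0 < e := by
  have := Fact.mk h.prime
  rw [← orderOf_of_prim hq h, orderOf_pos_iff, isOfFinOrder_iff_pow_eq_one]
  refine ⟨r - 1, Nat.sub_pos_of_lt h.prime.one_lt, ZMod.pow_card_sub_one_eq_one ?_⟩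
  rw [Ne, ZMod.natCast_eq_zero_iff]
  exact h.not_dvd

/-- `r ≡ 1` modulo `e` -/
theorem prim_dvd_sub {q e r : ℕ} (hq : 1 ≤ q) (h : Prim q e r) : e ∣ r - 1 := by
  have := Fact.mk h.prime
  rw [← orderOf_of_prim hq h]
  apply orderOf_dvd_of_pow_eq_one
  apply ZMod.pow_card_sub_one_eq_one
  rw [Ne, ZMod.natCast_eq_zero_iff]
  exact h.not_dvd

theorem prim_lt {q e r : ℕ} (hq : 1 ≤ q) (h : Prim q e r) : e < r := by
  have h1 := Nat.le_of_dvd (Nat.sub_pos_of_lt h.prime.one_lt) (prim_dvd_sub hq h)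
  have := h.prime.two_le
  omega

/-- the class of a prime greater than 3 is at least 3 -/
theorem three_le {s : ℕ} (hs : s.Prime) (h2 : s ≠ 2) (h3 : s ≠ 3) : 3 ≤ orderOf ((3 : ℕ) : ZMod s) := by
  have hd : ¬ s ∣ 3 := fun h => h3 ((Nat.prime_dvd_prime_iff_eq hs Nat.prime_three).1 h)
  have h1 := prim_of_orderOf (q := 3) (by norm_num) hs hd
  have h0 := prim_pos (by norm_num) h1
  set e := orderOf ((3 : ℕ) : ZMod s) with he
  by_contra hlt
  have h4 : s ∣ 3 ^ 2 - 1 := h1.dvd (by interval_cases e <;> decide)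
  have h5 : s ∣ 2 ^ 3 := by norm_num at h4 ⊢; exact h4
  exact h2 ((Nat.prime_dvd_prime_iff_eq hs Nat.prime_two).1 (hs.dvd_of_dvd_pow h5))

/-! ### The order of `L` -/

section

variable {F : Type*} [Field F] [Fintype F] {N n : ℕ} {a b : F}

theorem minus_eq {m : ℕ} (hm : 4 ≤ m) (hab : An a b) :
    den (.ominus m (Fintype.card F)) * Nat.card (POmega F (quadFormMinus (m - 1) F a b)) =
      num (.ominus m (Fintype.card F)) := by
  have h := S0294.result (F := F) rfl m hm a b hab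
  rw [← prod_list (fun i => Fintype.card F ^ (2 * (i + 1)) - 1)] at h
  change Nat.gcd 4 (Fintype.card F ^ m + 1) * _ =
    Fintype.card F ^ (m * (m - 1)) * ((Fintype.card F ^ m + 1) * prB (Fintype.card F) (m - 1))
  rw [← mul_assoc (Fintype.card F ^ (m * (m - 1)))]
  exact h

theorem dvd_L_iff (hF : Fintype.card F = 3) (hN : 4 ≤ N) (hab : An a b) {d w : ℕ} (hd : 3 ≤ d) (hw : Prim 3 d w) :
    w ∣ Nat.card (POmega F (quadFormMinus (N - 1) F a b)) ↔ K (.ominus N 3) d := by
  have h := minus_eq hN hab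
  rw [hF] at h
  exact dvd_iff (by norm_num) hd hw (g := .ominus N 3) rfl h

theorem prime_dvd_L (hF : Fintype.card F = 3) (hN : 4 ≤ N) (hab : An a b) {s : ℕ} (hs : s.Prime) (h2 : s ≠ 2)
    (h3 : s ≠ 3) (h : s ∣ Nat.card (POmega F (quadFormMinus (N - 1) F a b))) :
    3 ≤ orderOf ((3 : ℕ) : ZMod s) ∧ Prim 3 (orderOf ((3 : ℕ) : ZMod s)) s ∧
      K (.ominus N 3) (orderOf ((3 : ℕ) : ZMod s)) := by
  have hd : ¬ s ∣ 3 := fun h => h3 ((Nat.prime_dvd_prime_iff_eq hs Nat.prime_three).1 h)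
  have h1 := prim_of_orderOf (q := 3) (by norm_num) hs hd
  have h4 := three_le hs h2 h3
  exact ⟨h4, h1, (dvd_L_iff hF hN hab h4 h1).1 h⟩

theorem K_le {e : ℕ} (hN : 4 ≤ N) (h : K (.ominus N 3) e) : e ≤ 2 * N := by
  rcases h with ⟨h, -⟩ | ⟨k, hk, hkN, h⟩
  · exact Nat.le_of_dvd (by omega) h
  · have := Nat.le_of_dvd (by omega) h
    omega

/-! ### The classes `2 N` and `2 (N - 1)` -/

/-- **The neighbours of a prime of class `2 N`, `2 (N-1)` have the same class.** -/
theorem closed (hF : Fintype.card F = 3) (hN : N.Prime) (h5 : 5 ≤ N) (hn : N = 2 ^ n + 1) (hab : An a b) {e r s : ℕ}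
    (he : e = 2 * N ∨ e = 2 * (N - 1)) (hr : Prim 3 e r) (hs : s.Prime) (hrs : r ≠ s)
    (hx : ∃ x : POmega F (quadFormMinus (N - 1) F a b), orderOf x = r * s) : Prim 3 e s := by
  have hF' : Nat.card F = 3 := by rw [Nat.card_eq_fintype_card, hF]
  have he8 : 8 ≤ e := by rcases he with rfl | rfl <;> omega
  have hr2 : r ≠ 2 := hr.ne_two (by omega) (by decide)
  have hr3 : r ≠ 3 := by
    rintro rfl
    exact hr.not_dvd dvd_rfl
  have hor : orderOf ((3 : ℕ) : ZMod r) = e := orderOf_of_prim (by norm_num) hr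
  have hodd : Odd N := hN.odd_of_ne_two (by omega)
  obtain ⟨x, hx⟩ := hx
  rcases eq_or_ne s 2 with rfl | hs2
  · exfalso
    refine Minus.ne_two_mul hF (by omega) hodd hab hr.prime hr2 hr3 ?_ x (by rw [hx, mul_comm])
    rw [hF', hor]
    rcases he with rfl | rfl
    · exact Or.inl rfl
    · refine Or.inr ⟨rfl, hr.dvd_add dvd_rfl fun h => ?_⟩
      have := Nat.le_of_dvd (by omega) h
      omega
  rcases eq_or_ne s 3 with rfl | hs3
  · exfalso
    refine Minus.ne_three_mul hF (by omega) hab hr.prime hr2 hr3 ?_ x (by rw [hx, mul_comm])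
    rw [hF', hor]
    exact he
  have hsL : s ∣ Nat.card (POmega F (quadFormMinus (N - 1) F a b)) :=
    (Dvd.intro_left _ rfl).trans (hx ▸ orderOf_dvd_natCard x)
  obtain ⟨h3, h1, hK⟩ := prime_dvd_L hF (by omega) hab hs hs2 hs3 hsL
  have hle := K_le (by omega) hK
  set e' := orderOf ((3 : ℕ) : ZMod s) with he'
  have hM : OddM e e' := by
    by_contra hM
    refine minus_nonadj (F := F) (by rw [hF]; decide) (by omega) hab hr.prime hs hr2 hs2 hrs
      (by rw [hF]; exact hr.not_dvd) (by rw [hF]; exact h1.not_dvd) ?_ ?_ ⟨x, hx⟩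
    · rw [hF, hor, ← he']
      have ha := eta_spec e
      have hb := eta_spec e'
      have hc : ∀ k, ¬ (Odd k ∧ Even k) := fun k ⟨h, h'⟩ => (Nat.not_even_iff_odd.2 h) h'
      rcases he with rfl | rfl
      · rcases ha with ⟨ha, -⟩ | ⟨-, ha⟩
        · exact absurd ⟨ha, even_two_mul N⟩ (hc _)
        · rcases hb with ⟨-, hb⟩ | ⟨-, hb⟩ <;> omega
      · rcases ha with ⟨ha, -⟩ | ⟨-, ha⟩
        · exact absurd ⟨ha, even_two_mul (N - 1)⟩ (hc _)
        · rcases hb with ⟨-, hb⟩ | ⟨-, hb⟩ <;> omega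
    · rw [hF, hor, ← he']
      exact hM
  have key : e' = e := by
    obtain ⟨t, ht, h | h⟩ := hM
    · obtain ⟨k, rfl⟩ := ht
      rcases Nat.eq_zero_or_pos k with rfl | hk
      · simpa using h
      · exfalso
        have h6 : e * 3 ≤ e * (2 * k + 1) := Nat.mul_le_mul_left _ (by omega)
        rcases he with rfl | rfl <;> omega
    · rcases he with rfl | rfl
      · have h7 : t ∣ 2 * N := Dvd.intro_left _ h.symm
        have h8 : t ∣ N := (Nat.Coprime.dvd_mul_left (Nat.coprime_two_right.2 ht)).1 h7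
        rcases (Nat.dvd_prime hN).1 h8 with rfl | rfl
        · omega
        · have h9 : e' = 2 := (Nat.eq_of_mul_eq_mul_right (by omega) h).symm
          omega
      · have h7 : t ∣ 2 ^ (n + 1) := by
          rw [pow_succ, mul_comm]
          refine Dvd.intro_left e' ?_
          rw [← h, hn]
          simp
        have h8 : t = 1 := by
          have h9 : Nat.Coprime t (2 ^ (n + 1)) := Nat.Coprime.pow_right _ (Nat.coprime_two_right.2 ht)
          exact Nat.Coprime.eq_one_of_dvd h9 h7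
        rw [h8, mul_one] at h
        exact h.symm
  rw [← key]
  exact h1

/-- primes of class `2 N`, `2 (N - 1)` divide `|L|` -/
theorem dvd_L (hF : Fintype.card F = 3) (h5 : 5 ≤ N) (hab : An a b) {e r : ℕ}
    (he : e = 2 * N ∨ e = 2 * (N - 1)) (hr : Prim 3 e r) :
    r ∣ Nat.card (POmega F (quadFormMinus (N - 1) F a b)) := by
  refine (dvd_L_iff hF (by omega) hab (by rcases he with rfl | rfl <;> omega) hr).2 ?_
  rcases he with rfl | rfl
  · refine Or.inl ⟨dvd_rfl, fun h => ?_⟩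
    have := Nat.le_of_dvd (by omega) h
    omega
  · exact Or.inr ⟨N - 1, by omega, by omega, dvd_rfl⟩

/-! ### Cocliques -/

/-- the condition for cocliques -/
structure Cl (N : ℕ) (E : Finset ℕ) : Prop where
  three_le : ∀ e ∈ E, 3 ≤ e
  mem : ∀ e ∈ E, K (.ominus N 3) e
  far : ∀ e ∈ E, ∀ f ∈ E, e ≠ f → N < eta e + eta f ∧ ¬ OddM e f

theorem coclique (hF : Fintype.card F = 3) (hN : 4 ≤ N) (hab : An a b) {E : Finset ℕ} (hE : Cl N E) {c : ℕ → ℕ}
    (hc : ∀ e ∈ E, Prim 3 e (c e)) :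
    IsCoc (POmega F (quadFormMinus (N - 1) F a b)) (E.image c) ∧ (E.image c).card = E.card := by
  have hinj : ∀ e ∈ E, ∀ f ∈ E, c e = c f → e = f := fun e he f hf h =>
    (hc e he).unique (h ▸ hc f hf)
  refine ⟨⟨?_, ?_, ?_⟩, Finset.card_image_of_injOn (fun e he f hf h => hinj e he f hf h)⟩
  · intro r hr
    obtain ⟨e, he, rfl⟩ := Finset.mem_image.1 hr
    exact (hc e he).prime
  · intro r hr
    obtain ⟨e, he, rfl⟩ := Finset.mem_image.1 hr
    exact (dvd_L_iff hF hN hab (hE.three_le e he) (hc e he)).2 (hE.mem e he)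
  · intro r hr s hs hrs
    obtain ⟨e, he, rfl⟩ := Finset.mem_image.1 hr
    obtain ⟨f, hf, rfl⟩ := Finset.mem_image.1 hs
    have hef : e ≠ f := fun h => hrs (by rw [h])
    obtain ⟨h1, h2⟩ := hE.far e he f hf hef
    have he3 := hE.three_le e he
    have hf3 := hE.three_le f hf
    exact minus_nonadj (F := F) (by rw [hF]; decide) (by omega) hab (hc e he).prime (hc f hf).prime
      ((hc e he).ne_two (by omega) (by decide)) ((hc f hf).ne_two (by omega) (by decide)) hrs
      (by rw [hF]; exact (hc e he).not_dvd) (by rw [hF]; exact (hc f hf).not_dvd)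
      (by rw [hF, orderOf_of_prim (by norm_num) (hc e he), orderOf_of_prim (by norm_num) (hc f hf)]; exact h1)
      (by rw [hF, orderOf_of_prim (by norm_num) (hc e he), orderOf_of_prim (by norm_num) (hc f hf)]; exact h2)

end

end Cfsg.Agent.H977.Dp
end

-- part: H977/DpCoc
section
/-!
# Cocliques of the prime graph of `²D_N(3)` (helper977, for S3651)
-/

set_option autoImplicit false

namespace Cfsg.Agent.H977.Dp

open Cfsg Cfsg.Agent.OrdDiv Cfsg.Agent.H436 Cfsg.Agent.H425.Chr Cfsg.Agent.H420.QR Cfsg.Agent.H376.Coc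
open Cfsg.Agent.H977.Minus (An)

/-- primitive primes from powers -/
theorem prim_of_pow {q e r : ℕ} (hq : 1 ≤ q) (he : 0 < e) (hr : r.Prime) (hd : ¬ r ∣ q)
    (h : ((q : ℕ) : ZMod r) ^ e = 1)
    (h' : ∀ p : ℕ, p.Prime → p ∣ e → ((q : ℕ) : ZMod r) ^ (e / p) ≠ 1) : Prim q e r := by
  have h1 := orderOf_eq_of_pow_and_pow_div_prime he h h'
  have h2 := prim_of_orderOf hq hr hd
  rwa [h1] at h2

theorem prime_dvd_thirty {p : ℕ} (hp : p.Prime) (h : p ∣ 30) : p = 2 ∨ p = 3 ∨ p = 5 := by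
  rw [show 30 = 2 * 3 * 5 by norm_num, hp.dvd_mul, hp.dvd_mul, Nat.prime_dvd_prime_iff_eq hp Nat.prime_two,
    Nat.prime_dvd_prime_iff_eq hp Nat.prime_three, Nat.prime_dvd_prime_iff_eq hp Nat.prime_five] at h
  tauto

theorem prim31 : Prim 3 30 31 := by
  refine prim_of_pow (by norm_num) (by norm_num) (by norm_num) (by norm_num) (by decide) ?_
  intro p hp hd
  rcases prime_dvd_thirty hp hd with rfl | rfl | rfl <;> decide

theorem prim7 : Prim 3 6 7 := by
  refine prim_of_pow (by norm_num) (by norm_num) (by norm_num) (by norm_num) (by decide) ?_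
  intro p hp hd
  rcases prime_dvd_thirty hp (hd.trans (by norm_num)) with rfl | rfl | rfl
  · decide
  · decide
  · norm_num at hd

theorem prim13 : Prim 3 3 13 := by
  refine prim_of_pow (by norm_num) (by norm_num) (by norm_num) (by norm_num) (by decide) ?_
  intro p hp hd
  rcases prime_dvd_thirty hp (hd.trans (by norm_num)) with rfl | rfl | rfl
  · norm_num at hd
  · decide
  · norm_num at hd

theorem prim61 : Prim 3 10 61 := by
  refine prim_of_pow (by norm_num) (by norm_num) (by norm_num) (by norm_num) (by decide) ?_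
  intro p hp hd
  rcases prime_dvd_thirty hp (hd.trans (by norm_num)) with rfl | rfl | rfl
  · decide
  · norm_num at hd
  · decide

theorem prim41 : Prim 3 8 41 := by
  refine prim_of_pow (by norm_num) (by norm_num) (by norm_num) (by norm_num) (by decide) ?_
  intro p hp hd
  have : p = 2 := (Nat.prime_dvd_prime_iff_eq hp Nat.prime_two).1 (hp.dvd_of_dvd_pow (show p ∣ 2 ^ 3 from hd))
  subst this
  decide

theorem prim103 : Prim 3 34 103 := by
  refine prim_of_pow (by norm_num) (by norm_num) (by norm_num) (by norm_num) (by decide +kernel) ?_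
  intro p hp hd
  have : p = 2 ∨ p = 17 := by
    rw [show 34 = 2 * 17 by norm_num, hp.dvd_mul, Nat.prime_dvd_prime_iff_eq hp Nat.prime_two,
      Nat.prime_dvd_prime_iff_eq hp (by norm_num)] at hd
    exact hd
  rcases this with rfl | rfl <;> decide +kernel

/-- the classes of the large coclique -/
def MM (N e : ℕ) : Prop := (∃ i, e = 2 * i ∧ N < 2 * i ∧ i ≤ N) ∨ (e % 2 = 1 ∧ N < 2 * e ∧ e ≤ N - 1)

theorem K_even {N i : ℕ} (h1 : 1 ≤ i) (hi : i ≤ N) : K (.ominus N 3) (2 * i) := by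
  rcases Nat.lt_or_ge i N with h | h
  · exact Or.inr ⟨i, h1, by omega, dvd_rfl⟩
  · obtain rfl : i = N := by omega
    refine Or.inl ⟨dvd_rfl, fun h => ?_⟩
    have := Nat.le_of_dvd (by omega) h
    omega

theorem K_odd {N e : ℕ} (h1 : 1 ≤ e) (he : e ≤ N - 1) : K (.ominus N 3) e :=
  Or.inr ⟨e, h1, he, dvd_mul_left _ _⟩

theorem eta_two_mul (i : ℕ) : eta (2 * i) = i := by
  unfold eta
  rw [if_pos (even_two_mul i)]
  omega

theorem eta_odd {e : ℕ} (h : e % 2 = 1) : eta e = e := by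
  unfold eta
  rw [if_neg (by rw [Nat.even_iff]; omega)]

theorem not_oddM {e f : ℕ} (he : 0 < e) (hf : 0 < f) (hne : e ≠ f) (h1 : ∀ t, 3 ≤ t → t % 2 = 1 → f ≠ e * t)
    (h2 : ∀ t, 3 ≤ t → t % 2 = 1 → e ≠ f * t) : ¬ OddM e f := by
  rintro ⟨t, ht, h | h⟩
  · rw [Nat.odd_iff] at ht
    rcases Nat.lt_or_ge t 3 with h3 | h3
    · obtain rfl : t = 1 := by omega
      omega
    · exact h1 t h3 ht h
  · rw [Nat.odd_iff] at ht
    rcases Nat.lt_or_ge t 3 with h3 | h3
    · obtain rfl : t = 1 := by omega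
      omega
    · exact h2 t h3 ht h

theorem MM.lt {N e : ℕ} (h : MM N e) : N < 2 * eta e := by
  rcases h with ⟨i, rfl, h, -⟩ | ⟨h, h2, -⟩
  · rw [eta_two_mul]; exact h
  · rw [eta_odd h]; exact h2

theorem MM.ne_mul {N e f : ℕ} (he : MM N e) (hf : MM N f) (t : ℕ) (ht : 3 ≤ t) (hto : t % 2 = 1) : f ≠ e * t := by
  intro h
  have h3 : e * 3 ≤ e * t := Nat.mul_le_mul_left _ ht
  rcases he with ⟨i, rfl, h1, h2⟩ | ⟨h0, h1, h2⟩
  · rcases hf with ⟨j, rfl, h4, h5⟩ | ⟨h4, h5, h6⟩ <;> omega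
  · rcases hf with ⟨j, rfl, h4, h5⟩ | ⟨h4, h5, h6⟩
    · have : (e * t) % 2 = 1 := by rw [Nat.mul_mod, h0, hto]
      omega
    · omega

theorem Cl.of_MM {N : ℕ} (h5 : 5 ≤ N) {E : Finset ℕ} (h : ∀ e ∈ E, MM N e) : Cl N E where
  three_le e he := by
    rcases h e he with ⟨i, rfl, h, -⟩ | ⟨h, h2, -⟩ <;> omega
  mem e he := by
    rcases h e he with ⟨i, rfl, h, h'⟩ | ⟨h, h2, h3⟩
    · exact K_even (by omega) h'
    · exact K_odd (by omega) h3
  far e he f hf hne := by
    have h1 := (h e he).lt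
    have h2 := (h f hf).lt
    refine ⟨by omega, not_oddM ?_ ?_ hne ((h e he).ne_mul (h f hf)) ((h f hf).ne_mul (h e he))⟩
    · rcases h e he with ⟨i, rfl, h, -⟩ | ⟨h, h2, -⟩ <;> omega
    · rcases h f hf with ⟨i, rfl, h, -⟩ | ⟨h, h2, -⟩ <;> omega

/-- the set of classes for large `N` -/
def EN (N : ℕ) : Finset ℕ := insert 30 (((Finset.range 15).filter fun j => ¬ 15 ∣ N - j).image fun j => 2 * (N - j))

theorem mem_EN {N e : ℕ} (hN : 257 ≤ N) (h : e ∈ EN N) (h30 : e ≠ 30) :
    ∃ i, e = 2 * i ∧ N ≤ i + 14 ∧ i ≤ N ∧ ¬ 15 ∣ i := by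
  rw [EN, Finset.mem_insert, Finset.mem_image] at h
  obtain ⟨j, hj, rfl⟩ := h.resolve_left h30
  rw [Finset.mem_filter, Finset.mem_range] at hj
  obtain ⟨hj1, hj2⟩ := hj
  refine ⟨N - j, rfl, ?_, Nat.sub_le _ _, hj2⟩
  clear hj2 h
  omega

theorem card_EN {N : ℕ} (hN : 257 ≤ N) : 15 ≤ (EN N).card := by
  rw [EN, Finset.card_insert_of_notMem, Finset.card_image_of_injOn]
  · have h1 := Finset.card_filter_add_card_filter_not (s := Finset.range 15) (fun j => 15 ∣ N - j)
    rw [Finset.card_range] at h1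
    have h2 : ((Finset.range 15).filter fun j => 15 ∣ N - j).card ≤ 1 := by
      rw [Finset.card_le_one]
      intro a ha b hb
      rw [Finset.mem_filter, Finset.mem_range] at ha hb
      omega
    omega
  · intro a ha b hb hab
    rw [Finset.mem_coe, Finset.mem_filter, Finset.mem_range] at ha hb
    simp only at hab
    omega
  · intro h
    obtain ⟨j, hj, h⟩ := Finset.mem_image.1 h
    rw [Finset.mem_filter, Finset.mem_range] at hj
    obtain ⟨hj, -⟩ := hj
    omega

theorem cl_EN {N : ℕ} (hN : 257 ≤ N) : Cl N (EN N) where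
  three_le e he := by
    rcases eq_or_ne e 30 with rfl | h30
    · norm_num
    · obtain ⟨i, rfl, h1, h2, h3⟩ := mem_EN hN he h30
      omega
  mem e he := by
    rcases eq_or_ne e 30 with rfl | h30
    · exact K_even (i := 15) (by norm_num) (by omega)
    · obtain ⟨i, rfl, h1, h2, h3⟩ := mem_EN hN he h30
      exact K_even (by omega) h2
  far e he f hf hne := by
    have e30 : eta 30 = 15 := eta_two_mul 15
    rcases eq_or_ne e 30 with rfl | h30
    · obtain ⟨i, rfl, h1, h2, h3⟩ := mem_EN hN hf hne.symm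
      rw [eta_two_mul, e30]
      refine ⟨by omega, not_oddM (by norm_num) (by omega) hne ?_ ?_⟩
      · intro t _ _ ht
        exact h3 ⟨t, by omega⟩
      · intro t ht _ h
        have : 2 * i * 3 ≤ 2 * i * t := Nat.mul_le_mul_left _ ht
        omega
    · obtain ⟨i, rfl, h1, h2, h3⟩ := mem_EN hN he h30
      rcases eq_or_ne f 30 with rfl | h30'
      · rw [eta_two_mul, e30]
        refine ⟨by omega, not_oddM (by omega) (by norm_num) hne ?_ ?_⟩
        · intro t ht _ h
          have : 2 * i * 3 ≤ 2 * i * t := Nat.mul_le_mul_left _ ht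
          omega
        · intro t _ _ ht
          exact h3 ⟨t, by omega⟩
      · obtain ⟨j, rfl, h1', h2', h3'⟩ := mem_EN hN hf h30'
        rw [eta_two_mul, eta_two_mul]
        refine ⟨by omega, not_oddM (by omega) (by omega) hne ?_ ?_⟩
        · intro t ht _ h
          have : 2 * i * 3 ≤ 2 * i * t := Nat.mul_le_mul_left _ ht
          omega
        · intro t ht _ h
          have : 2 * j * 3 ≤ 2 * j * t := Nat.mul_le_mul_left _ ht
          omega

/-- the set of classes for `N = 17` -/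
def E17 : Finset ℕ := {9, 11, 13, 15, 18, 20, 22, 24, 26, 28, 30, 32, 34}

theorem cl_E17 : Cl 17 E17 := by
  apply Cl.of_MM (by norm_num)
  intro e he
  have h : e % 2 = 1 ∧ 9 ≤ e ∧ e ≤ 16 ∨ e % 2 = 0 ∧ 18 ≤ e ∧ e ≤ 34 := by
    revert e
    decide
  rcases h with h | h
  · exact Or.inr ⟨h.1, by omega, by omega⟩
  · exact Or.inl ⟨e / 2, by omega, by omega, by omega⟩

/-- `2 ^ n + 1` prime -/
theorem cases_N {N n : ℕ} (hN : N.Prime) (hn : N = 2 ^ n + 1) (h5 : 5 ≤ N) : N = 5 ∨ N = 17 ∨ 257 ≤ N := by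
  rcases Nat.lt_or_ge n 8 with h | h
  · interval_cases n
    · omega
    · omega
    · exact Or.inl hn
    · subst hn; norm_num at hN
    · exact Or.inr (Or.inl hn)
    · subst hn; norm_num at hN
    · subst hn; norm_num at hN
    · subst hn; norm_num at hN
  · right; right
    have := Nat.pow_le_pow_right (n := 2) (by norm_num) h
    omega

section

variable {F : Type*} [Field F] [Fintype F] {N n : ℕ} {a b : F}

/-- **A coclique through 31.** -/
theorem exists_coc (hF : Fintype.card F = 3) (hab : An a b) (hN : N = 17 ∨ 257 ≤ N) :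
    ∃ ρ : Finset ℕ, IsCoc (POmega F (quadFormMinus (N - 1) F a b)) ρ ∧ 31 ∈ ρ ∧ (∀ x ∈ ρ, 3 < x) ∧ 13 ≤ ρ.card ∧
      (257 ≤ N → 15 ≤ ρ.card) := by
  classical
  obtain ⟨E, hE, h30, h13, h15⟩ : ∃ E : Finset ℕ, Cl N E ∧ 30 ∈ E ∧ 13 ≤ E.card ∧ (257 ≤ N → 15 ≤ E.card) := by
    rcases hN with rfl | hN
    · exact ⟨E17, cl_E17, by decide, by decide, by omega⟩
    · exact ⟨EN N, cl_EN hN, Finset.mem_insert_self _ _, by have := card_EN hN; omega, fun _ => card_EN hN⟩
  have hex : ∀ e, ∃ r, 3 ≤ e → Prim 3 e r := fun e => by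
    by_cases he : 3 ≤ e
    · obtain ⟨r, hr⟩ := exists_prim (q := 3) (by norm_num) he (by omega)
      exact ⟨r, fun _ => hr⟩
    · exact ⟨0, fun h => absurd h he⟩
  choose c hc using hex
  let c' : ℕ → ℕ := fun e => if e = 30 then 31 else c e
  have hc' : ∀ e ∈ E, Prim 3 e (c' e) := fun e he => by
    by_cases h : e = 30
    · subst h
      exact prim31
    · change Prim 3 e (if e = 30 then 31 else c e)
      rw [if_neg h]
      exact hc e (hE.three_le e he)
  obtain ⟨h1, h2⟩ := coclique hF (by omega) hab hE hc'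
  refine ⟨E.image c', h1, Finset.mem_image.2 ⟨30, h30, rfl⟩, ?_, by omega, fun h => by have := h15 h; omega⟩
  intro x hx
  obtain ⟨e, he, rfl⟩ := Finset.mem_image.1 hx
  have := prim_lt (by norm_num) (hc' e he)
  have := hE.three_le e he
  omega

/-- the coclique for `N = 5` -/
theorem coc_five (hF : Fintype.card F = 3) (hab : An a b) :
    IsCoc (POmega F (quadFormMinus (5 - 1) F a b)) {7, 13, 41, 61} := by
  have hE : Cl 5 {6, 3, 8, 10} := by
    apply Cl.of_MM (by norm_num)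
    intro e he
    simp only [Finset.mem_insert, Finset.mem_singleton] at he
    rcases he with rfl | rfl | rfl | rfl
    · exact Or.inl ⟨3, by norm_num, by norm_num, by norm_num⟩
    · exact Or.inr ⟨by norm_num, by norm_num, by norm_num⟩
    · exact Or.inl ⟨4, by norm_num, by norm_num, by norm_num⟩
    · exact Or.inl ⟨5, by norm_num, by norm_num, by norm_num⟩
  have h := (coclique hF (by norm_num) hab hE (c := fun e => if e = 6 then 7 else if e = 3 then 13 else
    if e = 8 then 41 else 61) ?_).1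
  · have he : (Finset.image (fun e => if e = 6 then 7 else if e = 3 then 13 else if e = 8 then 41 else 61)
        ({6, 3, 8, 10} : Finset ℕ)) = {7, 13, 41, 61} := by decide
    rwa [he] at h
  · intro e he
    simp only [Finset.mem_insert, Finset.mem_singleton] at he
    rcases he with rfl | rfl | rfl | rfl
    · exact prim7
    · exact prim13
    · exact prim41
    · exact prim61

end

end Cfsg.Agent.H977.Dp
end

private theorem dce_ac36d611042d : _root_.True := by
  try have : _root_.True := by simp only [_root_.Cfsg.Agent.H977.Dp.EN.eq_1]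
  exact _root_.True.intro
end

-- part: H977/DpPslTwo
section
set_option linter.all false
open scoped Cfsg.Agent.FastGrp

/-!
# Cocliques of the prime graph: `PSL(2,q)` and groups with a cover by cliques (helper977, for S3651)
-/

set_option autoImplicit false

namespace Cfsg.Agent.H977.Dp

open Cfsg Cfsg.Agent.OrdDiv Cfsg.Agent.H436 Cfsg.Agent.H420.QR Cfsg.Agent.H376.Coc

section

variable {F : Type*} [Field F] [Fintype F]

theorem exists_plus (hu : 12 ≤ Fintype.card F) : ∃ x : Matrix.ProjectiveSpecialLinearGroup (Fin 2) F,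
    orderOf x = (Fintype.card F + 1) / Nat.gcd 2 (Fintype.card F - 1) := by
  obtain ⟨H, -, ⟨e⟩⟩ := Cfsg.Agent.S0811.result (F := F) rfl (by
    simp only [Finset.mem_insert, Finset.mem_singleton]
    omega)
  refine ⟨(e.symm (DihedralGroup.r 1) : H), ?_⟩
  rw [Subgroup.orderOf_coe, MulEquiv.orderOf_eq, DihedralGroup.orderOf_r_one]

theorem exists_minus (hu : 12 ≤ Fintype.card F) : ∃ x : Matrix.ProjectiveSpecialLinearGroup (Fin 2) F,
    orderOf x = (Fintype.card F - 1) / Nat.gcd 2 (Fintype.card F - 1) := by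
  obtain ⟨H, -, ⟨e⟩⟩ := Cfsg.Agent.S0812.result (F := F) rfl (by
    simp only [Finset.mem_insert, Finset.mem_singleton]
    omega)
  refine ⟨(e.symm (DihedralGroup.r 1) : H), ?_⟩
  rw [Subgroup.orderOf_coe, MulEquiv.orderOf_eq, DihedralGroup.orderOf_r_one]

/-- an element whose order is a given divisor -/
theorem exists_of_dvd {G : Type*} [Group G] {x : G} {m : ℕ} (hx : 0 < orderOf x) (h : m ∣ orderOf x) :
    ∃ y : G, orderOf y = m := by
  obtain ⟨k, hk⟩ := h
  have hk0 : k ≠ 0 := by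
    rintro rfl
    rw [mul_zero] at hk
    omega
  refine ⟨x ^ k, ?_⟩
  rw [orderOf_pow_of_dvd hk0 ⟨m, by rw [hk, mul_comm]⟩, hk, Nat.mul_div_cancel _ (Nat.pos_of_ne_zero hk0)]

theorem dvd_div_gcd {m t q : ℕ} (hm : m % 2 = 1) (h : m ∣ t) (hd : Nat.gcd 2 (q - 1) ∣ t) :
    m ∣ t / Nat.gcd 2 (q - 1) := by
  have hg : Nat.gcd 2 (q - 1) ∣ 2 := Nat.gcd_dvd_left _ _
  have hg0 : 0 < Nat.gcd 2 (q - 1) := Nat.gcd_pos_of_pos_left _ (by norm_num)
  have hc : Nat.Coprime m (Nat.gcd 2 (q - 1)) := by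
    apply Nat.Coprime.coprime_dvd_right hg
    rw [Nat.coprime_two_right, Nat.odd_iff]
    exact hm
  obtain ⟨k, rfl⟩ := hd
  rw [Nat.mul_div_cancel_left _ hg0]
  exact hc.dvd_of_dvd_mul_left h

theorem psl2_adj {r s : ℕ} (hr : r.Prime) (hs : s.Prime) (hrs : r ≠ s) (h3 : 3 < r) (h3' : 3 < s)
    (h : (r ∣ Fintype.card F - 1 ∧ s ∣ Fintype.card F - 1) ∨ (r ∣ Fintype.card F + 1 ∧ s ∣ Fintype.card F + 1)) :
    ∃ x : Matrix.ProjectiveSpecialLinearGroup (Fin 2) F, orderOf x = r * s := by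
  have hq : 1 < Fintype.card F := Fintype.one_lt_card
  have hcop : Nat.Coprime r s := (Nat.coprime_primes hr hs).2 hrs
  have hr2 : r % 2 = 1 := hr.eq_two_or_odd.resolve_left (by omega)
  have hs2 : s % 2 = 1 := hs.eq_two_or_odd.resolve_left (by omega)
  have hodd : (r * s) % 2 = 1 := by rw [Nat.mul_mod, hr2, hs2]
  have hbig : 16 ≤ r * s := by nlinarith
  have hg2 : Nat.gcd 2 (Fintype.card F - 1) ∣ 2 := Nat.gcd_dvd_left _ _
  have hg1 : Nat.gcd 2 (Fintype.card F - 1) ∣ Fintype.card F - 1 := Nat.gcd_dvd_right _ _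
  have hg0 : 0 < Nat.gcd 2 (Fintype.card F - 1) := Nat.gcd_pos_of_pos_left _ (by norm_num)
  rcases h with ⟨h1, h2⟩ | ⟨h1, h2⟩
  · have hd := hcop.mul_dvd_of_dvd_of_dvd h1 h2
    have hle := Nat.le_of_dvd (by omega) hd
    obtain ⟨x, hx⟩ := exists_minus (F := F) (by omega)
    have h4 := dvd_div_gcd hodd hd hg1
    refine exists_of_dvd (x := x) ?_ (hx ▸ h4)
    rw [hx]
    exact Nat.div_pos (Nat.le_of_dvd (by omega) hg1) hg0
  · have hd := hcop.mul_dvd_of_dvd_of_dvd h1 h2
    have hle := Nat.le_of_dvd (by omega) hd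
    obtain ⟨x, hx⟩ := exists_plus (F := F) (by omega)
    have hg3 : Nat.gcd 2 (Fintype.card F - 1) ∣ Fintype.card F + 1 := by
      have := hg1.add hg2
      rwa [show Fintype.card F - 1 + 2 = Fintype.card F + 1 by omega] at this
    have h4 := dvd_div_gcd hodd hd hg3
    refine exists_of_dvd (x := x) ?_ (hx ▸ h4)
    rw [hx]
    exact Nat.div_pos (Nat.le_of_dvd (by omega) hg3) hg0

end

/-- the primes of `PSL(2,q)` -/
theorem psl2_prime {F : Type} [Field F] [Fintype F] {r : ℕ} (hr : r.Prime)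
    (h : r ∣ Nat.card (Matrix.ProjectiveSpecialLinearGroup (Fin 2) F)) :
    r ∣ Fintype.card F ∨ r ∣ Fintype.card F - 1 ∨ r ∣ Fintype.card F + 1 := by
  have h1 := psl_eq (F := F) (n := 2) le_rfl
  have h2 : r ∣ fPSL.num 2 (Fintype.card F) := h1 ▸ h.mul_left _
  have h3 : fPSL.num 2 (Fintype.card F) = (Fintype.card F ^ 2 - 1) * (Fintype.card F ^ 2 - Fintype.card F) := by
    change glN 2 _ = _
    simp [glN, List.range_succ]
  have h4 : Fintype.card F ^ 2 - 1 = (Fintype.card F + 1) * (Fintype.card F - 1) := by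
    have := Nat.sq_sub_sq (Fintype.card F) 1
    rwa [one_pow] at this
  have h5 : Fintype.card F ^ 2 - Fintype.card F = Fintype.card F * (Fintype.card F - 1) := by
    rw [Nat.mul_sub, mul_one, pow_two]
  rw [h3, h4, h5, hr.dvd_mul, hr.dvd_mul, hr.dvd_mul] at h2
  tauto

/-- primes dividing a prime power -/
theorem eq_of_dvd_pp {q r s : ℕ} (hq : IsPrimePow q) (hr : r.Prime) (hs : s.Prime) (h1 : r ∣ q) (h2 : s ∣ q) :
    r = s := by
  obtain ⟨p, k, hp, -, rfl⟩ := hq
  rw [← Nat.prime_iff] at hp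
  rw [(Nat.prime_dvd_prime_iff_eq hr hp).1 (hr.dvd_of_dvd_pow h1),
    (Nat.prime_dvd_prime_iff_eq hs hp).1 (hs.dvd_of_dvd_pow h2)]

theorem psl2_coc {F : Type} [Field F] [Fintype F] {S : Type*} [Group S]
    (e : S ≃* Matrix.ProjectiveSpecialLinearGroup (Fin 2) F) {C : Finset ℕ}
    (hC : IsCoc S C) (h3 : ∀ x ∈ C, 3 < x) : C.card ≤ 3 ∧ (3 ≤ C.card → ∃ x ∈ C, x ∣ Fintype.card F) := by
  classical
  have hC' := hC.congr e
  have hsub : C ⊆ (C.filter fun x => x ∣ Fintype.card F) ∪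
      ((C.filter fun x => x ∣ Fintype.card F - 1) ∪ (C.filter fun x => x ∣ Fintype.card F + 1)) := by
    intro x hx
    simp only [Finset.mem_union, Finset.mem_filter, hx, true_and]
    exact psl2_prime (hC'.prime x hx) (hC'.dvd x hx)
  have hA : (C.filter fun x => x ∣ Fintype.card F).card ≤ 1 := by
    rw [Finset.card_le_one]
    intro a ha b hb
    rw [Finset.mem_filter] at ha hb
    exact eq_of_dvd_pp Fintype.isPrimePow_card_of_field (hC.prime a ha.1) (hC.prime b hb.1) ha.2 hb.2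
  have hB : (C.filter fun x => x ∣ Fintype.card F - 1).card ≤ 1 := by
    rw [Finset.card_le_one]
    intro a ha b hb
    rw [Finset.mem_filter] at ha hb
    by_contra hab
    exact hC'.indep a ha.1 b hb.1 hab (psl2_adj (hC.prime a ha.1) (hC.prime b hb.1) hab (h3 a ha.1) (h3 b hb.1)
      (Or.inl ⟨ha.2, hb.2⟩))
  have hD : (C.filter fun x => x ∣ Fintype.card F + 1).card ≤ 1 := by
    rw [Finset.card_le_one]
    intro a ha b hb
    rw [Finset.mem_filter] at ha hb
    by_contra hab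
    exact hC'.indep a ha.1 b hb.1 hab (psl2_adj (hC.prime a ha.1) (hC.prime b hb.1) hab (h3 a ha.1) (h3 b hb.1)
      (Or.inr ⟨ha.2, hb.2⟩))
  have h1 := (Finset.card_le_card hsub).trans (Finset.card_union_le _ _)
  have h2 := Finset.card_union_le (C.filter fun x => x ∣ Fintype.card F - 1) (C.filter fun x => x ∣ Fintype.card F + 1)
  refine ⟨by omega, fun h => ?_⟩
  have hpos : 0 < (C.filter fun x => x ∣ Fintype.card F).card := by omega
  obtain ⟨x, hx⟩ := Finset.card_pos.1 hpos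
  rw [Finset.mem_filter] at hx
  exact ⟨x, hx.1, hx.2⟩

/-- cocliques in a group with a cover by `c` cliques -/
theorem cover_coc {G : Type*} [Group G] {q c : ℕ} (hq : IsPrimePow q) (h : Cover G q c) {C : Finset ℕ}
    (hC : IsCoc G C) (h3 : ∀ x ∈ C, 3 < x) : C.card ≤ c + 1 := by
  classical
  have h1 := Finset.card_filter_add_card_filter_not (s := C) (fun x => x ∣ q)
  have h2 : (C.filter fun x => x ∣ q).card ≤ 1 := by
    rw [Finset.card_le_one]
    intro a ha b hb
    rw [Finset.mem_filter] at ha hb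
    exact eq_of_dvd_pp hq (hC.prime a ha.1) (hC.prime b hb.1) ha.2 hb.2
  have h4 := h.card_le (C.filter fun x => ¬ x ∣ q) (fun r hr => by
    rw [Finset.mem_filter] at hr
    exact ⟨hC.prime r hr.1, h3 r hr.1, hr.2, hC.dvd r hr.1⟩) (fun r hr s hs hrs => by
    rw [Finset.mem_filter] at hr hs
    exact hC.indep r hr.1 s hs.1 hrs)
  omega

end Cfsg.Agent.H977.Dp

private theorem dce_6754bdb29817 : _root_.True := by
  try have : _root_.True := by simp only [_root_.Cfsg.Agent.OrdDiv.glN.eq_1]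
  exact _root_.True.intro
end
end
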