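import Cfsg.Agent.H902.Iso
import Cfsg.Agent.H977.MinusL
import Cfsg.Agent.Prune
set_option linter.all false
prune_inst 0x7f00000000000000000000000000000000000000000000000000000000000000000000000000000000000000000000000000000000000000000000000000000000000000000000000000000000000000003fffffffffffffffffffffffffffbeffbdffffffff

/-!
# The groups `PΩ⁻` with different parameters over different fields with the same number of elements (helper977)
-/

set_option autoImplicit false

namespace Cfsg.Agent.H977.Dp

open Cfsg
open Cfsg.Agent.H977.Minus (An)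

theorem minus_iso {F F' : Type*} [Field F] [Fintype F] [Field F'] [Fintype F'] (h : Fintype.card F' = Fintype.card F)
    (m : ℕ) {a b : F} {a' b' : F'} (hab : An a b) (hab' : An a' b') :
    Nonempty (POmega F' (quadFormMinus m F' a' b') ≃* POmega F (quadFormMinus m F a b)) := by
  let σ : F' ≃+* F := FiniteField.ringEquivOfCardEq h
  obtain ⟨f⟩ := Cfsg.Agent.UGT.U2.Rec.Congr.nonempty_POmega σ (Cfsg.Agent.H902.Iso.minus_map σ m a' b')
  obtain ⟨g⟩ := Cfsg.Agent.H902.Iso.minus_congr m (Cfsg.Agent.H902.Iso.aniso_map σ hab') hab
  exact ⟨f.trans g⟩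

end Cfsg.Agent.H977.Dp
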